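import Cfsg.Agent.H283.Fxo.Two
import Cfsg.Agent.AutOrth.SemiSim
import Cfsg.Agent.H79.Co3.Par

/-!
# S5719, `|A|` odd, orthogonal groups: semisimilarities, and odd dimension (helper283)

* `idm_semi` : a semisimilarity normalising `R` normalises `Idm Q R`.
* `exists_idm_of_odd` : in odd dimension (odd characteristic) there is a self-adjoint idempotent `≠ 0, 1` in `F[R]`.
-/

set_option autoImplicit false

namespace Cfsg.Agent.H283.Fxo

open QuadraticMap Module
open Cfsg.Agent.LieClassical.OrthCore Cfsg.Agent.LieClassical.OrthTrans Cfsg.Agent.LieClassical.OrthSimple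
  Cfsg.Agent.AutOrth.SemiSim

variable {F V : Type*} [Field F] [AddCommGroup V] [Module F V] {Q : QuadraticForm F V} {R : Set (V ≃ₗ[F] V)}

/-- conjugation of an endomorphism by a semisimilarity -/
def cj {M : V ≃+ V} {σ : F ≃+* F} {c : F} (hM : IsSemi Q M σ c) (a : Module.End F V) : Module.End F V where
  toFun v := M (a (M.symm v))
  map_add' x y := by simp
  map_smul' t x := by
    rw [hM.symm.smul, map_smul, hM.smul, RingEquiv.apply_symm_apply, RingHom.id_apply]

theorem cj_apply {M : V ≃+ V} {σ : F ≃+* F} {c : F} (hM : IsSemi Q M σ c) (a : Module.End F V) (v : V) :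
    cj hM a (M v) = M (a v) := by
  show M (a (M.symm (M v))) = M (a v)
  rw [AddEquiv.symm_apply_apply]

theorem cj_mem {M : V ≃+ V} {σ : F ≃+* F} {c : F} (hM : IsSemi Q M σ c) (hR : ∀ g ∈ R, conjL hM g ∈ R)
    {a : Module.End F V} (ha : a ∈ Alg R) : cj hM a ∈ Alg R := by
  induction ha using Algebra.adjoin_induction with
  | mem s hs =>
    obtain ⟨x, hx, rfl⟩ := hs
    exact Algebra.subset_adjoin ⟨_, hR x hx, by ext v; rfl⟩
  | algebraMap t =>
    have h1 : cj hM (algebraMap F (Module.End F V) t) = algebraMap F (Module.End F V) (σ t) := by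
      ext v
      obtain ⟨w, rfl⟩ := M.surjective v
      rw [cj_apply]
      show M (t • w) = σ t • M w
      exact hM.smul t w
    rw [h1]
    exact algebraMap_mem _ _
  | add s t _ _ hs ht =>
    have h1 : cj hM (s + t) = cj hM s + cj hM t := by
      ext v
      obtain ⟨w, rfl⟩ := M.surjective v
      rw [LinearMap.add_apply, cj_apply, cj_apply, cj_apply, LinearMap.add_apply, map_add]
    rw [h1]
    exact add_mem hs ht
  | mul s t _ _ hs ht =>
    have h1 : cj hM (s * t) = cj hM s * cj hM t := by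
      ext v
      obtain ⟨w, rfl⟩ := M.surjective v
      rw [Module.End.mul_apply, cj_apply, cj_apply, cj_apply, Module.End.mul_apply]
    rw [h1]
    exact mul_mem hs ht

/-- **A semisimilarity normalising `R` normalises `Idm Q R`.** -/
theorem idm_semi {M : V ≃+ V} {σ : F ≃+* F} {c : F} (hM : IsSemi Q M σ c) (hR : ∀ g ∈ R, conjL hM g ∈ R) :
    ∀ a ∈ Idm Q R, ∃ b ∈ Idm Q R, ∀ v, b (M v) = M (a v) := by
  intro a ha
  refine ⟨cj hM a, ⟨cj_mem hM hR ha.1, ?_, ?_⟩, cj_apply hM a⟩
  · ext v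
    obtain ⟨w, rfl⟩ := M.surjective v
    rw [Module.End.mul_apply, cj_apply, cj_apply]
    congr 1
    exact LinearMap.congr_fun ha.2.1 w
  · intro v w
    obtain ⟨v, rfl⟩ := M.surjective v
    obtain ⟨w, rfl⟩ := M.surjective w
    rw [cj_apply, cj_apply, hM.polar, hM.polar, ha.2.2]

section Odd

/-- the average over a finite subgroup -/
noncomputable def av (H : Subgroup (V ≃ₗ[F] V)) [Fintype H] : Module.End F V :=
  (Fintype.card H : F)⁻¹ • ∑ y : H, ((y : V ≃ₗ[F] V) : V →ₗ[F] V)

variable {H : Subgroup (V ≃ₗ[F] V)} [Fintype H]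

theorem mul_av {h : V ≃ₗ[F] V} (hh : h ∈ H) : (h : V →ₗ[F] V) * av H = av H := by
  rw [av, mul_smul_comm, Finset.mul_sum]
  congr 1
  refine Fintype.sum_equiv (Equiv.mulLeft (⟨h, hh⟩ : H)) _ _ ?_
  intro y
  rfl

theorem av_mul_av (hc : (Fintype.card H : F) ≠ 0) : av H * av H = av H := by
  have h1 : av H * av H = (Fintype.card H : F)⁻¹ • ∑ y : H, ((y : V ≃ₗ[F] V) : V →ₗ[F] V) * av H := by
    conv_lhs => arg 1; rw [av]
    rw [smul_mul_assoc, Finset.sum_mul]
  rw [h1, Finset.sum_congr rfl fun y _ => mul_av y.2, Finset.sum_const, Finset.card_univ, ← Nat.cast_smul_eq_nsmul F,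
    smul_smul, inv_mul_cancel₀ hc, one_smul]

theorem av_SA (hO : ∀ x ∈ H, x ∈ O Q) : SA Q (av H) := by
  intro v w
  have h1 : ∀ y : H, polar Q (((y : V ≃ₗ[F] V) : V →ₗ[F] V) v) w =
      polar Q v ((((y⁻¹ : H) : V ≃ₗ[F] V) : V →ₗ[F] V) w) := by
    intro y
    have h2 := polar_map (hO _ (y⁻¹).2) ((y : V ≃ₗ[F] V) v) w
    have h3 : ((y⁻¹ : H) : V ≃ₗ[F] V) ((y : V ≃ₗ[F] V) v) = v := LinearEquiv.symm_apply_apply (y : V ≃ₗ[F] V) v
    rw [h3] at h2
    exact h2.symm
  rw [av, LinearMap.smul_apply, LinearMap.smul_apply, polar_smul_left, polar_smul_right, LinearMap.sum_apply,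
    LinearMap.sum_apply]
  congr 1
  have e1 : polar Q (∑ y : H, ((y : V ≃ₗ[F] V) : V →ₗ[F] V) v) w =
      ∑ y : H, polar Q (((y : V ≃ₗ[F] V) : V →ₗ[F] V) v) w := by
    have := map_sum (polarBilin Q).flip.flip (fun y : H => ((y : V ≃ₗ[F] V) : V →ₗ[F] V) v) Finset.univ
    have h4 : ∀ u, polar Q u w = (polarBilin Q).flip w u := fun u => rfl
    rw [h4, map_sum]
    rfl
  have e2 : polar Q v (∑ y : H, ((y : V ≃ₗ[F] V) : V →ₗ[F] V) w) =
      ∑ y : H, polar Q v (((y : V ≃ₗ[F] V) : V →ₗ[F] V) w) := by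
    have h4 : ∀ u, polar Q v u = (polarBilin Q) v u := fun u => rfl
    rw [h4, map_sum]
    rfl
  rw [e1, e2, Finset.sum_congr rfl fun y _ => h1 y]
  exact Fintype.sum_equiv (Equiv.inv H) _ _ fun y => rfl

/-- **Odd dimension**: there is a self-adjoint idempotent `≠ 0, 1`. -/
theorem exists_idm_of_odd [Finite F] (h2 : (2 : F) ≠ 0) (hQ : Nondeg Q) (hn : Odd (finrank F V))
    (hRO : ∀ x ∈ R, x ∈ O Q) {r : ℕ} (hr : r.Prime) (hr2 : r ≠ 2) (hrF : (r : F) ≠ 0) {x : V ≃ₗ[F] V}
    (hx : x ∈ R) (hxr : x ^ r = 1) (hx1 : x ≠ 1) : ∃ e ∈ Idm Q R, e ≠ 0 ∧ e ≠ 1 := by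
  classical
  have hfd : FiniteDimensional F V := Module.finite_of_finrank_pos hn.pos
  have hfin : Finite (V ≃ₗ[F] V) := by
    have : Finite V := Module.finite_of_finite F
    exact Finite.of_injective (fun g : V ≃ₗ[F] V => (g : V → V)) DFunLike.coe_injective
  have : Fact r.Prime := ⟨hr⟩
  have hord : orderOf x = r := orderOf_eq_prime hxr hx1
  have := Fintype.ofFinite (Subgroup.zpowers x)
  have hcard : (Fintype.card (Subgroup.zpowers x) : F) ≠ 0 := by
    rw [← Nat.card_eq_fintype_card, Nat.card_zpowers, hord]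
    exact hrF
  have hO : ∀ y ∈ Subgroup.zpowers x, y ∈ O Q := by
    intro y hy
    exact (Subgroup.zpowers_le.2 (hRO x hx)) hy
  have hpow : ∀ k : ℕ, ((x ^ k : V ≃ₗ[F] V) : V →ₗ[F] V) ∈ Alg R := by
    intro k
    have h3 : ((x ^ k : V ≃ₗ[F] V) : V →ₗ[F] V) = ((x : V →ₗ[F] V) ^ k : Module.End F V) := by
      induction k with
      | zero => rfl
      | succ k ih =>
        rw [pow_succ, pow_succ, ← ih]
        rfl
    rw [h3]
    have h4 : (x : V →ₗ[F] V) ∈ Alg R := Algebra.subset_adjoin ⟨x, hx, rfl⟩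
    exact pow_mem h4 k
  refine ⟨av (Subgroup.zpowers x), ⟨?_, av_mul_av hcard, av_SA hO⟩, ?_, ?_⟩
  · refine Subalgebra.smul_mem _ (sum_mem fun y _ => ?_) _
    obtain ⟨k, hk⟩ := (Subgroup.mem_zpowers_iff.1 y.2)
    obtain ⟨k', hk'⟩ : ∃ k' : ℕ, x ^ k' = (y : V ≃ₗ[F] V) := by
      have h3 : (y : V ≃ₗ[F] V) ∈ Submonoid.powers x := (mem_powers_iff_mem_zpowers).2 y.2
      exact h3
    rw [← hk']
    exact hpow k'
  · intro h0
    -- no fixed vector
    have hfix : ∀ v, x v = v → v = 0 := by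
      intro v hv
      have h3 : ∀ y ∈ Subgroup.zpowers x, y v = v := by
        intro y hy
        have h4 : Subgroup.zpowers x ≤ MulAction.stabilizer (V ≃ₗ[F] V) v := Subgroup.zpowers_le.2 hv
        exact h4 hy
      have h4 : av (Subgroup.zpowers x) v = v := by
        rw [av, LinearMap.smul_apply, LinearMap.sum_apply]
        have h5 : ∀ y : Subgroup.zpowers x, ((y : V ≃ₗ[F] V) : V →ₗ[F] V) v = v := fun y => h3 y y.2
        rw [Finset.sum_congr rfl fun y _ => h5 y, Finset.sum_const, Finset.card_univ, ← Nat.cast_smul_eq_nsmul F,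
          smul_smul, inv_mul_cancel₀ hcard, one_smul]
      rw [h0] at h4
      exact h4.symm
    let β : V →ₗ[F] V →ₗ[F] F := (polarBilin Q).comp ((x : V →ₗ[F] V) - ((x⁻¹ : V ≃ₗ[F] V) : V →ₗ[F] V))
    have hβ : ∀ u v, β u v = polar Q (x u) v - polar Q (x⁻¹ u) v := by
      intro u v
      show polar Q (x u - x⁻¹ u) v = _
      rw [polar_sub_left]
    have hadj : ∀ u v, polar Q (x u) v = polar Q u (x⁻¹ v) := by
      intro u v
      have h3 := polar_map (hRO x hx) u (x⁻¹ v)
      have h4 : x (x⁻¹ v) = v := LinearEquiv.apply_symm_apply x v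
      rw [h4] at h3
      exact h3
    have heven : Even (finrank F V) := by
      refine H79.Co3.even_of_alt h2 β ?_ ?_
      · intro u v
        rw [hβ, hβ, hadj, hadj]
        have h3 : polar Q (x⁻¹ u) v = polar Q v (x⁻¹ u) := polar_comm Q _ _
        have h4 : polar Q (x⁻¹ v) u = polar Q u (x⁻¹ v) := polar_comm Q _ _
        rw [h3, h4]
        ring
      · intro u hu
        -- `x u = x⁻¹ u`
        have h3 : x u - x⁻¹ u = 0 := by
          apply hQ
          intro y
          exact hu y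
        have h4 : x (x u) = u := by
          rw [sub_eq_zero.1 h3]
          exact LinearEquiv.apply_symm_apply x u
        apply hfix
        obtain ⟨k, hk⟩ := hr.odd_of_ne_two hr2
        have h5 : ∀ n : ℕ, (x ^ (2 * n)) u = u := by
          intro n
          induction n with
          | zero => rfl
          | succ n ih =>
            rw [show 2 * (n + 1) = 2 * n + 1 + 1 by ring, pow_succ, pow_succ]
            show (x ^ (2 * n)) (x (x u)) = u
            rw [h4, ih]
        have h6 : (x ^ r) u = u := by rw [hxr]; rfl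
        rw [hk, pow_succ'] at h6
        have h7 : x ((x ^ (2 * k)) u) = u := h6
        rw [h5] at h7
        exact h7
    exact (Nat.not_even_iff_odd.2 hn) heven
  · intro h1
    apply hx1
    have h3 := mul_av (H := Subgroup.zpowers x) (Subgroup.mem_zpowers x)
    rw [h1, mul_one] at h3
    ext v
    exact LinearMap.congr_fun h3 v

end Odd

end Cfsg.Agent.H283.Fxo
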