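import Cfsg.Agent.H429.IFO.Frame
import Cfsg.Agent.H283.Fxo.TwoSemi
import Cfsg.Agent.H22.IFO.Uni
import Cfsg.Agent.H626.IFO.FourO

/-!
# S5719, `|A|` odd, orthogonal groups: (β) and the odd dimensional groups (helper283)

* `beta`: the algebra of the lift of `R` has a self-adjoint idempotent `≠ 0, 1`: impossible;
* `semi_of`: all automorphisms are induced by semisimilarities (dimension at least 7, no totally singular 4-space in
  dimension 8);
* `killO_odd`: `KillO (P Q)`, odd dimension; `odd_O`: the cell of `CellsO`.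
-/

set_option autoImplicit false

namespace Cfsg.Agent.H283.Fxo

open QuadraticMap Module
open Cfsg.Agent.LieClassical.OrthCore Cfsg.Agent.LieClassical.OrthTrans Cfsg.Agent.LieClassical.OrthSimple
open Cfsg.Agent.AutOrth.SemiSim Cfsg.Agent.ClassicalGeometry.OrthAut1 Cfsg.Agent.H209.Fxy Cfsg.Agent.H429.IFO

section

variable {F V : Type*} [Field F] [AddCommGroup V] [Module F V] {Q : QuadraticForm F V} [Finite F]
  {A : Subgroup (P Q)} {Γ : Subgroup (MulAut (P Q))} {R : Subgroup (P Q)} {r : ℕ}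

/-- **(β)** -/
theorem beta (hG : Good Q) (h : IF A Γ) (hodd : Odd (Nat.card A)) (hΓ : Semi Q Γ) (hr : r.Prime) (hr2 : r ≠ 2)
    (hcomm : ∀ x ∈ R, ∀ y ∈ R, x * y = y * x) (hinv : ∀ σ ∈ Γ, ∀ x ∈ R, σ x ∈ R)
    (hid : ∃ e ∈ Idm Q (hatSet R r), e ≠ 0 ∧ e ≠ 1) : False := by
  obtain ⟨e, he, h0, h1⟩ := hid
  have hro := hr.odd_of_ne_two hr2
  obtain ⟨⟨x, hx, hxx, hxs, hxc⟩, hN⟩ := exists_invol hG (R := hatSet R r) (fun x hx => hat_O hx)
    (fun x hx y hy => hat_comm hG hro hcomm hx hy) hro (fun x hx => hat_pow hx) he h0 h1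
  refine kill_of_set hG h hodd hΓ hinv (Idm Q (hatSet R r)) (fun M σ c hM hg => idm_semi hM hg) hx
    ⟨1, fun v => ?_⟩ hxs (fun a ha => ⟨a, ha, fun v => (hxc a ha v).symm⟩) ?_
  · rw [one_smul]
    exact LinearEquiv.congr_fun hxx v
  · by_contra hcon
    push Not at hcon
    apply hN
    intro g hg d hd
    obtain ⟨b, hb, hbg⟩ := hcon g hg d hd
    have h2 : (g : V →ₗ[F] V) * d * ((g⁻¹ : V ≃ₗ[F] V) : V →ₗ[F] V) = b := by
      ext v
      change g (d ((g⁻¹ : V ≃ₗ[F] V) v)) = b v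
      rw [← hbg]
      congr 1
      exact LinearEquiv.apply_symm_apply g v
    rw [h2]
    exact hb

/-- all automorphisms are induced by semisimilarities -/
theorem semi_of (hG : Good Q) (h7 : 7 ≤ finrank F V)
    (h8 : finrank F V = 8 → ∀ W : Submodule F V, TS Q W → finrank F W ≠ 4) (Γ : Subgroup (MulAut (P Q))) :
    Semi Q Γ := by
  have hfd : FiniteDimensional F V := Module.finite_of_finrank_pos (by omega)
  intro α _
  exact Cfsg.Agent.ClassicalGeometry.OrthAut4.exists_semi_P hG h7 α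
    (Cfsg.Agent.AutOrth.Main.pt_of_no_four hG h7 h8 α)

theorem beta_odd (hG : Good Q) (h2 : (2 : F) ≠ 0) (hn : Odd (finrank F V)) (h : IF A Γ) (hodd : Odd (Nat.card A))
    (hΓ : Semi Q Γ) (hr : r.Prime) (hr2 : r ≠ 2) (hrF : (r : F) ≠ 0) (hR : R ≠ ⊥) (hpow : ∀ x ∈ R, x ^ r = 1)
    (hcomm : ∀ x ∈ R, ∀ y ∈ R, x * y = y * x) (hinv : ∀ σ ∈ Γ, ∀ x ∈ R, σ x ∈ R) : False := by
  obtain ⟨g, hg, hg1⟩ := exists_hat_ne hG (hr.odd_of_ne_two hr2) hpow hR
  obtain ⟨e, he, h0, h1⟩ := exists_idm_of_odd h2 hG.nondeg hn (R := hatSet R r) (fun x hx => hat_O hx) hr hr2 hrF hg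
    (hat_pow hg) hg1
  exact beta hG h hodd hΓ hr hr2 hcomm hinv ⟨e, he, h0, h1⟩

end

/-- **`KillO` in odd dimension.** -/
theorem killO_odd {F V : Type*} [Field F] [AddCommGroup V] [Module F V] {Q : QuadraticForm F V} [Finite F]
    (hG : Good Q) (h2 : (2 : F) ≠ 0) (h7 : 7 ≤ finrank F V) (hn : Odd (finrank F V)) : KillO (P Q) := by
  intro A Γ h hodd
  have hP := Cfsg.Agent.H429.IFO.finite_P hG
  obtain ⟨r, R, hr, hr2, hRA, hR, hpow, hcomm, hinv⟩ := H447.IFO.exists_elemAb h hodd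
  by_cases hrF : (r : F) = 0
  · exact H22.IFO.no_p hG h hodd hr hr2 hRA hR hpow hcomm hinv h2 h7 hrF
  · refine beta_odd hG h2 hn h hodd (semi_of hG h7 (fun h8 => ?_) Γ) hr hr2 hrF hR hpow hcomm hinv
    exfalso
    rw [h8] at hn
    exact (Nat.not_even_iff_odd.2 hn) ⟨4, rfl⟩

/-- **The cell `odd_O`.** -/
theorem odd_O (F : Type) [Field F] [Fintype F] (m : ℕ) (ho : Odd (Fintype.card F)) (hm : 3 ≤ m) :
    KillO (Cfsg.POmega F (Cfsg.quadFormOdd m F)) := by
  have h2 : (2 : F) ≠ 0 := by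
    intro h
    have h1 : ringChar F ∣ 2 := ringChar.dvd (by exact_mod_cast h)
    have h3 : ringChar F = 2 := ((Nat.dvd_prime Nat.prime_two).1 h1).resolve_left CharP.ringChar_ne_one
    have h4 := FiniteField.even_card_of_char_two h3
    obtain ⟨k, hk⟩ := ho
    omega
  have hG : Good (Cfsg.Agent.LieClassical.OrthForms.oddForm m F) := by
    apply Cfsg.Agent.LieClassical.OrthFinite.good_of_finite (Cfsg.Agent.LieClassical.OrthForms.nondeg_oddForm m F h2)
    rw [Module.finrank_fintype_fun_eq_card, Fintype.card_sum, Fintype.card_sum, Fintype.card_fin, Fintype.card_unit]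
    omega
  have hfr : finrank F (Unit ⊕ (Fin m ⊕ Fin m) → F) = 2 * m + 1 := by
    rw [Module.finrank_fintype_fun_eq_card, Fintype.card_sum, Fintype.card_sum, Fintype.card_fin, Fintype.card_unit]
    omega
  rw [← Cfsg.Agent.LieClassical.OrthForms.coe_oddForm]
  apply H626.IFO.killO_POmega hG
  exact killO_odd hG h2 (by rw [hfr]; omega) ⟨m, hfr⟩

end Cfsg.Agent.H283.Fxo
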