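import Cfsg.Agent.LieClassical.OrthSimple
import Cfsg.Agent.LieClassical.OrthFinite

/-!
# S5719, `|A|` odd, orthogonal groups: two or more coarse blocks (helper283)

`R` a commutative group of isometries of `V` of odd exponent, `Alg R = F[R]`, `Idm Q R` the set of the self-adjoint
idempotents of `F[R]`. If `Idm Q R` contains an idempotent `≠ 0, 1` then there are two vectors `u`, `v` with
`Q u = Q v ≠ 0`, `polar Q u v = 0` such that every idempotent of `Idm Q R` fixes or kills `u`, and `v`; so the product of the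
two reflections is an involution of `Ω(V) = E Q` centralising `Idm Q R`, and `E Q` does not normalise `Idm Q R`.
-/

set_option autoImplicit false

namespace Cfsg.Agent.H283.Fxo

open QuadraticMap Module
open Cfsg.Agent.LieClassical.OrthCore Cfsg.Agent.LieClassical.OrthTrans Cfsg.Agent.LieClassical.OrthSimple

variable {F V : Type*} [Field F] [AddCommGroup V] [Module F V]

/-- the algebra generated by a set of linear automorphisms -/
def Alg (R : Set (V ≃ₗ[F] V)) : Subalgebra F (Module.End F V) :=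
  Algebra.adjoin F {a | ∃ x ∈ R, a = (x : V →ₗ[F] V)}

/-- self-adjoint endomorphisms -/
def SA (Q : QuadraticForm F V) (a : Module.End F V) : Prop := ∀ v w, polar Q (a v) w = polar Q v (a w)

/-- the self-adjoint idempotents of `F[R]` -/
def Idm (Q : QuadraticForm F V) (R : Set (V ≃ₗ[F] V)) : Set (Module.End F V) :=
  {e | e ∈ Alg R ∧ e * e = e ∧ SA Q e}

variable {Q : QuadraticForm F V} {R : Set (V ≃ₗ[F] V)}

theorem alg_comm (hR : ∀ x ∈ R, ∀ y ∈ R, x * y = y * x) {a b : Module.End F V} (ha : a ∈ Alg R) (hb : b ∈ Alg R) :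
    a * b = b * a := by
  have h1 : ∀ s ∈ {a : Module.End F V | ∃ x ∈ R, a = (x : V →ₗ[F] V)}, ∀ b ∈ Alg R, s * b = b * s := by
    rintro _ ⟨x, hx, rfl⟩ b hb
    induction hb using Algebra.adjoin_induction with
    | mem s hs =>
      obtain ⟨y, hy, rfl⟩ := hs
      have h2 := hR x hx y hy
      ext v
      exact LinearEquiv.congr_fun h2 v
    | algebraMap c => exact (Algebra.commutes c _).symm
    | add s t _ _ hs ht => rw [mul_add, add_mul, hs, ht]
    | mul s t _ _ hs ht => rw [← mul_assoc, hs, mul_assoc, ht, mul_assoc]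
  induction ha using Algebra.adjoin_induction with
  | mem s hs => exact h1 s hs b hb
  | algebraMap c => exact Algebra.commutes c _
  | add s t _ _ hs ht => rw [mul_add, add_mul, hs, ht]
  | mul s t _ _ hs ht => rw [mul_assoc, ht, ← mul_assoc, hs, mul_assoc]

theorem one_mem_Idm : (1 : Module.End F V) ∈ Idm Q R :=
  ⟨one_mem _, one_mul _, fun _ _ => rfl⟩

theorem Idm.mul (hR : ∀ x ∈ R, ∀ y ∈ R, x * y = y * x) {e f : Module.End F V} (he : e ∈ Idm Q R)
    (hf : f ∈ Idm Q R) : e * f ∈ Idm Q R := by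
  have hc : e * f = f * e := alg_comm hR he.1 hf.1
  refine ⟨mul_mem he.1 hf.1, ?_, ?_⟩
  · rw [mul_assoc, ← mul_assoc f e f, ← hc, mul_assoc, hf.2.1, ← mul_assoc, he.2.1]
  · intro v w
    rw [Module.End.mul_apply, he.2.2, hf.2.2, ← Module.End.mul_apply, ← hc]

theorem Idm.one_sub {e : Module.End F V} (he : e ∈ Idm Q R) : 1 - e ∈ Idm Q R := by
  refine ⟨sub_mem (one_mem _) he.1, ?_, ?_⟩
  · rw [mul_sub, mul_one, sub_mul, one_mul, he.2.1, sub_self, sub_zero]
  · intro v w
    rw [LinearMap.sub_apply, LinearMap.sub_apply, polar_sub_left, polar_sub_right, he.2.2]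
    rfl

section

variable [FiniteDimensional F V]

/-- minimal idempotents -/
theorem exists_min (hR : ∀ x ∈ R, ∀ y ∈ R, x * y = y * x) {e : Module.End F V} (he : e ∈ Idm Q R) (h0 : e ≠ 0) :
    ∃ f ∈ Idm Q R, f ≠ 0 ∧ e * f = f ∧ ∀ d ∈ Idm Q R, d * f = 0 ∨ d * f = f := by
  classical
  have hex : ∃ n : ℕ, ∃ f ∈ Idm Q R, f ≠ 0 ∧ e * f = f ∧ finrank F (LinearMap.range f) = n :=
    ⟨_, e, he, h0, he.2.1, rfl⟩
  obtain ⟨f, hf, hf0, hef, hn⟩ := Nat.find_spec hex
  refine ⟨f, hf, hf0, hef, fun d hd => ?_⟩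
  by_cases hd0 : d * f = 0
  · exact Or.inl hd0
  right
  have hdf := Idm.mul hR hd hf
  have hc : d * f = f * d := alg_comm hR hd.1 hf.1
  have h1 : e * (d * f) = d * f := by
    rw [hc, ← mul_assoc, hef]
  have h2 : Nat.find hex ≤ finrank F (LinearMap.range (d * f)) := Nat.find_min' hex ⟨_, hdf, hd0, h1, rfl⟩
  have h3 : LinearMap.range (d * f) ≤ LinearMap.range f := by
    rw [hc]
    rintro _ ⟨v, rfl⟩
    exact ⟨d v, rfl⟩
  have h4 : LinearMap.range (d * f) = LinearMap.range f :=
    Submodule.eq_of_le_of_finrank_le h3 (by rw [hn]; exact h2)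
  ext v
  have h5 : f v ∈ LinearMap.range (d * f) := by rw [h4]; exact ⟨v, rfl⟩
  obtain ⟨w, hw⟩ := h5
  have h6 : (d * f) (f v) = f v := by
    rw [← hw]
    exact LinearMap.congr_fun hdf.2.1 w
  have h7 : (d * f) (f v) = (d * f) v := by
    show d (f (f v)) = d (f v)
    rw [show f (f v) = f v from LinearMap.congr_fun hf.2.1 v]
  rw [← h7, h6]

omit [FiniteDimensional F V] in
/-- there are nonsingular vectors in the range of an idempotent -/
theorem exists_nonsing_range (hQ : Nondeg Q) {e : Module.End F V} (he : e * e = e) (hs : SA Q e) {w : V}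
    (hw : e w = w) (h0 : w ≠ 0) : ∃ y, e y = y ∧ polar Q w y ≠ 0 := by
  obtain ⟨y, hy⟩ := hQ.exists_polar_ne h0
  refine ⟨e y, LinearMap.congr_fun he y, ?_⟩
  rw [← hs, hw]
  exact hy

omit [FiniteDimensional F V] in
theorem exists_Q_ne (hQ : Nondeg Q) {e : Module.End F V} (he : e * e = e) (hs : SA Q e) (h0 : e ≠ 0) :
    ∃ u, e u = u ∧ Q u ≠ 0 := by
  by_contra hcon
  push Not at hcon
  apply h0
  ext v
  by_contra hv
  have h1 : e (e v) = e v := LinearMap.congr_fun he v
  obtain ⟨y, hy, hp⟩ := exists_nonsing_range hQ he hs h1 hv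
  apply hp
  rw [polar, hcon (e v + y) (by rw [map_add, h1, hy]), hcon _ h1, hcon _ hy, sub_zero, sub_zero]

omit [FiniteDimensional F V] in
/-- in odd characteristic a block of dimension at least two represents every nonzero value -/
theorem universal [Finite F] (h2 : (2 : F) ≠ 0) (hQ : Nondeg Q) {e : Module.End F V} (he : e * e = e) (hs : SA Q e)
    {u w : V} (hu : e u = u) (hQu : Q u ≠ 0) (hw : e w = w) (hw0 : w ≠ 0) (huw : polar Q u w = 0) (t : F) :
    ∃ v, e v = v ∧ Q v = t := by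
  -- a nonsingular vector orthogonal to `u`
  have hb : ∃ b, e b = b ∧ polar Q u b = 0 ∧ Q b ≠ 0 := by
    by_contra hcon
    push Not at hcon
    obtain ⟨y, hy, hp⟩ := exists_nonsing_range hQ he hs hw hw0
    set y' : V := y - (polar Q u y / (2 * Q u)) • u with hy'
    have h1 : e y' = y' := by rw [hy', map_sub, map_smul, hy, hu]
    have h3 : polar Q u y' = 0 := by
      rw [hy', polar_sub_right, polar_smul_right, polar_self', smul_eq_mul, div_mul_cancel₀ _ (mul_ne_zero h2 hQu),
        sub_self]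
    have h4 : polar Q w y' ≠ 0 := by
      rw [hy', polar_sub_right, polar_smul_right, polar_comm Q w u, huw, smul_zero, sub_zero]
      exact hp
    apply h4
    rw [polar, hcon (w + y') (by rw [map_add, hw, h1]) (by rw [polar_add_right, huw, h3, add_zero]), hcon w hw huw,
      hcon y' h1 h3, sub_zero, sub_zero]
  obtain ⟨b, hb1, hb2, hb3⟩ := hb
  have := Fintype.ofFinite F
  classical
  -- x² Q u + y² Q b = t
  have hxy : ∃ x y : F, Q u * x ^ 2 + Q b * y ^ 2 = t := by
    have hodd : Fintype.card F % 2 = 1 := by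
      have h5 : ringChar F ≠ 2 := by
        intro h
        apply h2
        have h6 : ((2 : ℕ) : F) = 0 := by
          rw [← h]
          exact ringChar.Nat.cast_ringChar
        exact_mod_cast h6
      exact FiniteField.odd_card_of_char_ne_two h5
    obtain ⟨x, y, hxy⟩ := FiniteField.exists_root_sum_quadratic
      (f := Polynomial.C (Q u) * Polynomial.X ^ 2 - Polynomial.C t) (g := Polynomial.C (Q b) * Polynomial.X ^ 2)
      (by
        rw [Polynomial.degree_sub_C]
        · exact Polynomial.degree_C_mul_X_pow 2 hQu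
        · rw [Polynomial.degree_C_mul_X_pow 2 hQu]
          norm_num)
      (Polynomial.degree_C_mul_X_pow 2 hb3) hodd
    refine ⟨x, y, ?_⟩
    simp only [Polynomial.eval_sub, Polynomial.eval_mul, Polynomial.eval_C, Polynomial.eval_pow,
      Polynomial.eval_X] at hxy
    linear_combination hxy
  obtain ⟨x, y, hxy⟩ := hxy
  refine ⟨x • u + y • b, ?_, ?_⟩
  · rw [map_add, map_smul, map_smul, hu, hb1]
  · rw [Q_add, QuadraticMap.map_smul, QuadraticMap.map_smul, polar_smul_left, polar_smul_right, hb2, ← hxy]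
    simp only [smul_eq_mul]
    ring

/-- **Two vectors in different blocks, with the same value of `Q`.** -/
theorem exists_uv [Finite F] (hQ : Nondeg Q) (hRO : ∀ x ∈ R, x ∈ O Q) (hR : ∀ x ∈ R, ∀ y ∈ R, x * y = y * x)
    {r : ℕ} (hr : Odd r) (hRr : ∀ x ∈ R, x ^ r = 1) {e : Module.End F V} (he : e ∈ Idm Q R) (h0 : e ≠ 0)
    (h1 : e ≠ 1) :
    ∃ u v : V, Q u ≠ 0 ∧ Q u = Q v ∧ polar Q u v = 0 ∧ (∀ d ∈ Idm Q R, d u = u ∨ d u = 0) ∧
      (∀ d ∈ Idm Q R, d v = v ∨ d v = 0) ∧ ∃ d ∈ Idm Q R, d u = u ∧ d v = 0 := by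
  obtain ⟨f, hf, hf0, hef, hfm⟩ := exists_min hR he h0
  obtain ⟨g, hg, hg0, heg, hgm⟩ := exists_min hR (Idm.one_sub he) (sub_ne_zero.2 (Ne.symm h1))
  -- the two blocks are orthogonal
  have hfu : ∀ u, f u = u → ∀ d ∈ Idm Q R, d u = u ∨ d u = 0 := by
    intro u hu d hd
    rcases hfm d hd with h | h
    · right
      rw [← hu]
      exact LinearMap.congr_fun h u
    · left
      nth_rewrite 1 [← hu]
      rw [← hu]
      nth_rewrite 1 [hu]
      exact (LinearMap.congr_fun h u).trans rfl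
  have hgu : ∀ u, g u = u → ∀ d ∈ Idm Q R, d u = u ∨ d u = 0 := by
    intro u hu d hd
    rcases hgm d hd with h | h
    · right
      rw [← hu]
      exact LinearMap.congr_fun h u
    · left
      nth_rewrite 1 [← hu]
      rw [← hu]
      nth_rewrite 1 [hu]
      exact (LinearMap.congr_fun h u).trans rfl
  have heu : ∀ u, f u = u → e u = u := by
    intro u hu
    have h2 := LinearMap.congr_fun hef u
    rw [Module.End.mul_apply, hu] at h2
    exact h2
  have hev : ∀ v, g v = v → e v = 0 := by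
    intro v hv
    have h2 := LinearMap.congr_fun heg v
    rw [Module.End.mul_apply, hv, LinearMap.sub_apply, Module.End.one_apply] at h2
    exact sub_eq_self.1 h2
  have hperp : ∀ u v, f u = u → g v = v → polar Q u v = 0 := by
    intro u v hu hv
    rw [← heu u hu, he.2.2, hev v hv, polar_zero_right]
  -- it is enough to find `u`, `v`
  have key : (∃ u v, f u = u ∧ g v = v ∧ Q u ≠ 0 ∧ Q u = Q v) → ∃ u v : V, Q u ≠ 0 ∧ Q u = Q v ∧ polar Q u v = 0 ∧
      (∀ d ∈ Idm Q R, d u = u ∨ d u = 0) ∧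
      (∀ d ∈ Idm Q R, d v = v ∨ d v = 0) ∧ ∃ d ∈ Idm Q R, d u = u ∧ d v = 0 := by
    rintro ⟨u, v, hu, hv, hq, hqq⟩
    exact ⟨u, v, hq, hqq, hperp u v hu hv, hfu u hu, hgu v hv, e, he, heu u hu, hev v hv⟩
  obtain ⟨u, hu, hQu⟩ := exists_Q_ne hQ hf.2.1 hf.2.2 hf0
  obtain ⟨v, hv, hQv⟩ := exists_Q_ne hQ hg.2.1 hg.2.2 hg0
  apply key
  by_cases h2 : (2 : F) = 0
  · -- characteristic two: scale
    have : CharP F 2 := by
      refine CharTwo.of_one_ne_zero_of_two_eq_zero one_ne_zero h2
    obtain ⟨c, hc⟩ : ∃ c : F, c ^ 2 = Q u / Q v := by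
      have := Fintype.ofFinite F
      obtain ⟨c, hc⟩ := FiniteField.isSquare_of_char_two (by
        exact ringChar.eq F 2) (Q u / Q v)
      exact ⟨c, by rw [hc, pow_two]⟩
    refine ⟨u, c • v, hu, by rw [map_smul, hv], hQu, ?_⟩
    rw [QuadraticMap.map_smul, smul_eq_mul, ← pow_two, hc, div_mul_cancel₀ _ hQv]
  · by_cases hfd : ∃ w, f w = w ∧ w ≠ 0 ∧ polar Q u w = 0
    · obtain ⟨w, hw, hw0, hp⟩ := hfd
      obtain ⟨u', hu', hq⟩ := universal h2 hQ hf.2.1 hf.2.2 hu hQu hw hw0 hp (Q v)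
      exact ⟨u', v, hu', hv, by rw [hq]; exact hQv, hq⟩
    by_cases hgd : ∃ w, g w = w ∧ w ≠ 0 ∧ polar Q v w = 0
    · obtain ⟨w, hw, hw0, hp⟩ := hgd
      obtain ⟨v', hv', hq⟩ := universal h2 hQ hg.2.1 hg.2.2 hv hQv hw hw0 hp (Q u)
      exact ⟨u, v', hu, hv', hQu, hq.symm⟩
    exfalso
    push Not at hfd hgd
    -- both blocks are one-dimensional
    have line : ∀ (f : Module.End F V) (u : V), f ∈ Idm Q R → f u = u → Q u ≠ 0 →
        (∀ w, f w = w → w ≠ 0 → polar Q u w ≠ 0) → ∀ x ∈ R, x u = u := by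
      intro f u hf hu hQu hd x hx
      have hfx : f (x u) = x u := by
        have h3 : f * (x : V →ₗ[F] V) = (x : V →ₗ[F] V) * f :=
          alg_comm hR hf.1 (Algebra.subset_adjoin ⟨x, hx, rfl⟩)
        have h4 := LinearMap.congr_fun h3 u
        rw [Module.End.mul_apply, Module.End.mul_apply, hu] at h4
        exact h4
      -- `x u` is a multiple of `u`
      set c : F := polar Q u (x u) / (2 * Q u) with hc
      have h5 : x u = c • u := by
        by_contra h6
        refine hd (x u - c • u) (by rw [map_sub, map_smul, hfx, hu]) (sub_ne_zero.2 h6) ?_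
        rw [polar_sub_right, polar_smul_right, polar_self', smul_eq_mul, hc,
          div_mul_cancel₀ _ (mul_ne_zero h2 hQu), sub_self]
      have h6 : c * c = 1 := by
        have h7 := mem_O.1 (hRO x hx) u
        rw [h5, QuadraticMap.map_smul, smul_eq_mul] at h7
        exact mul_right_cancel₀ hQu (by rw [h7, one_mul])
      have h7 : ∀ n : ℕ, (x ^ n) u = c ^ n • u := by
        intro n
        induction n with
        | zero => rw [pow_zero, pow_zero, one_smul]; rfl
        | succ n ih =>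
          rw [pow_succ, pow_succ]
          show (x ^ n) (x u) = _
          rw [h5, map_smul, ih, smul_smul, mul_comm]
      have h8 : c ^ r = 1 := by
        have h9 := h7 r
        rw [hRr x hx] at h9
        have h10 : u = c ^ r • u := h9
        have h11 : u ≠ 0 := by
          rintro rfl
          exact hQu (QuadraticMap.map_zero Q)
        have h12 : (c ^ r - 1) • u = 0 := by rw [sub_smul, one_smul, ← h10, sub_self]
        exact sub_eq_zero.1 ((smul_eq_zero.1 h12).resolve_right h11)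
      have h9 : c = 1 := by
        obtain ⟨k, rfl⟩ := hr
        rw [pow_succ, pow_mul, pow_two, h6, one_pow, one_mul] at h8
        exact h8
      rw [h5, h9, one_smul]
    have hxu := line f u hf hu hQu hfd
    have hxv := line g v hg hv hQv hgd
    -- `F[R]` acts in the same way on `u` and `v`
    have h3 : ∀ a ∈ Alg R, ∃ c : F, a u = c • u ∧ a v = c • v := by
      intro a ha
      induction ha using Algebra.adjoin_induction with
      | mem s hs =>
        obtain ⟨x, hx, rfl⟩ := hs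
        refine ⟨1, ?_, ?_⟩
        · rw [one_smul]; exact hxu x hx
        · rw [one_smul]; exact hxv x hx
      | algebraMap c => exact ⟨c, rfl, rfl⟩
      | add s t _ _ hs ht =>
        obtain ⟨c, hc1, hc2⟩ := hs
        obtain ⟨d, hd1, hd2⟩ := ht
        refine ⟨c + d, ?_, ?_⟩
        · rw [LinearMap.add_apply, hc1, hd1, add_smul]
        · rw [LinearMap.add_apply, hc2, hd2, add_smul]
      | mul s t _ _ hs ht =>
        obtain ⟨c, hc1, hc2⟩ := hs
        obtain ⟨d, hd1, hd2⟩ := ht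
        refine ⟨d * c, ?_, ?_⟩
        · rw [Module.End.mul_apply, hd1, map_smul, hc1, smul_smul]
        · rw [Module.End.mul_apply, hd2, map_smul, hc2, smul_smul]
    obtain ⟨c, hc1, hc2⟩ := h3 e he.1
    have hu0 : u ≠ 0 := by
      rintro rfl
      exact hQu (QuadraticMap.map_zero Q)
    have hv0 : v ≠ 0 := by
      rintro rfl
      exact hQv (QuadraticMap.map_zero Q)
    rw [heu u hu] at hc1
    rw [hev v hv] at hc2
    have h4 : c = 0 := (smul_eq_zero.1 hc2.symm).resolve_right hv0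
    rw [h4, zero_smul] at hc1
    exact hu0 hc1

end

/-- a reflection in a vector fixed or killed by `d` commutes with `d` -/
theorem refl_comm_of {d : Module.End F V} (hd : SA Q d) {u : V} (hQu : Q u ≠ 0) (h : d u = u ∨ d u = 0) (v : V) :
    refl Q u hQu (d v) = d (refl Q u hQu v) := by
  rw [refl_apply, refl_apply, map_sub, map_smul]
  rcases h with h | h
  · rw [← hd u v, h]
  · rw [← hd u v, h, polar_zero_left, mul_zero, zero_smul, smul_zero]

/-- the linear automorphisms in `Ω(V)` normalising a set of endomorphisms -/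
def Nrm (Q : QuadraticForm F V) (D : Set (Module.End F V)) : Prop :=
  ∀ g ∈ E Q, ∀ d ∈ D, (g : V →ₗ[F] V) * d * ((g⁻¹ : V ≃ₗ[F] V) : V →ₗ[F] V) ∈ D

/-- **Two or more coarse blocks**: an involution of `Ω(V)`, not a scalar, centralising the self-adjoint idempotents. -/
theorem exists_invol [Finite F] (hG : Good Q) (hRO : ∀ x ∈ R, x ∈ O Q)
    (hR : ∀ x ∈ R, ∀ y ∈ R, x * y = y * x) {r : ℕ} (hr : Odd r) (hRr : ∀ x ∈ R, x ^ r = 1) {e : Module.End F V}
    (he : e ∈ Idm Q R) (h0 : e ≠ 0) (h1 : e ≠ 1) :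
    (∃ x ∈ E Q, x * x = 1 ∧ (¬ ∃ c : F, ∀ v : V, x v = c • v) ∧ ∀ d ∈ Idm Q R, ∀ v, x (d v) = d (x v)) ∧
      ¬ Nrm Q (Idm Q R) := by
  have : FiniteDimensional F V := Module.finite_of_finrank_pos (by have := hG.dim; omega)
  obtain ⟨u, v, hQu, hQuv, hp, hdu, hdv, d₀, hd₀, hd₀u, hd₀v⟩ := exists_uv hG.nondeg hRO hR hr hRr he h0 h1
  have hQv : Q v ≠ 0 := by rw [← hQuv]; exact hQu
  have hu0 : u ≠ 0 := by
    rintro rfl
    exact hQu (QuadraticMap.map_zero Q)
  have hv0 : v ≠ 0 := by
    rintro rfl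
    exact hQv (QuadraticMap.map_zero Q)
  have hx : refl Q u hQu * refl Q v hQv ∈ E Q := hG.refl_mul_refl_mem hQv hQu hQuv.symm
  have hxx : refl Q u hQu * refl Q v hQv * (refl Q u hQu * refl Q v hQv) = 1 := by
    have h2 := refl_comm hQu hQv hp
    calc refl Q u hQu * refl Q v hQv * (refl Q u hQu * refl Q v hQv)
        = refl Q u hQu * refl Q v hQv * (refl Q v hQv * refl Q u hQu) := by rw [h2]
      _ = refl Q u hQu * (refl Q v hQv * refl Q v hQv) * refl Q u hQu := by group
      _ = 1 := by rw [refl_mul_self, mul_one, refl_mul_self]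
  have hns : ¬ ∃ c : F, ∀ w : V, (refl Q u hQu * refl Q v hQv) w = c • w := by
    rintro ⟨c, hc⟩
    -- there is a vector orthogonal to `u` and `v`
    obtain ⟨w, hw0, hw⟩ := exists_perp_ne (Q := Q) ![u, v] (by have := hG.dim; omega)
    have hwu : polar Q u w = 0 := hw 0
    have hwv : polar Q v w = 0 := hw 1
    have h2 := hc w
    have h3 : (refl Q u hQu * refl Q v hQv) w = w := by
      show refl Q u hQu (refl Q v hQv w) = w
      rw [refl_apply, refl_apply, hwv, mul_zero, zero_smul, sub_zero, hwu, mul_zero, zero_smul, sub_zero]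
    rw [h3] at h2
    have h4 : c = 1 := by
      have h5 : (c - 1) • w = 0 := by rw [sub_smul, one_smul, ← h2, sub_self]
      exact sub_eq_zero.1 ((smul_eq_zero.1 h5).resolve_right hw0)
    -- so the product is trivial: but it moves a vector
    obtain ⟨y, hy⟩ := hG.nondeg.exists_polar_ne hu0
    have h5 := hc (d₀ y)
    rw [h4, one_smul] at h5
    have h6 : polar Q v (d₀ y) = 0 := by rw [← hd₀.2.2, hd₀v, polar_zero_left]
    have h7 : (refl Q u hQu * refl Q v hQv) (d₀ y) = d₀ y - ((Q u)⁻¹ * polar Q u (d₀ y)) • u := by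
      show refl Q u hQu (refl Q v hQv (d₀ y)) = _
      rw [refl_apply hQv, h6, mul_zero, zero_smul, sub_zero, refl_apply]
    rw [h7, sub_eq_self, smul_eq_zero] at h5
    rcases h5 with h5 | h5
    · rcases mul_eq_zero.1 h5 with h6 | h6
      · exact hQu (inv_eq_zero.1 h6)
      · rw [← hd₀.2.2, hd₀u] at h6
        exact hy h6
    · exact hu0 h5
  have hcomm : ∀ d ∈ Idm Q R, ∀ w, (refl Q u hQu * refl Q v hQv) (d w) = d ((refl Q u hQu * refl Q v hQv) w) := by
    intro d hd w
    show refl Q u hQu (refl Q v hQv (d w)) = d (refl Q u hQu (refl Q v hQv w))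
    rw [refl_comm_of hd.2.2 hQv (hdv d hd), refl_comm_of hd.2.2 hQu (hdu d hd)]
  refine ⟨⟨_, hx, hxx, hns, hcomm⟩, ?_⟩
  intro hN
  -- the centraliser of the idempotents in `E Q` is normal
  let K : Subgroup (V ≃ₗ[F] V) :=
    { carrier := {g | g ∈ E Q ∧ ∀ d ∈ Idm Q R, ∀ w, g (d w) = d (g w)}
      one_mem' := ⟨one_mem _, fun d _ w => rfl⟩
      mul_mem' := by
        rintro a b ⟨ha, ha'⟩ ⟨hb, hb'⟩
        refine ⟨mul_mem ha hb, fun d hd w => ?_⟩
        show a (b (d w)) = d (a (b w))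
        rw [hb' d hd, ha' d hd]
      inv_mem' := by
        rintro a ⟨ha, ha'⟩
        refine ⟨inv_mem ha, fun d hd w => ?_⟩
        apply a.injective
        rw [ha' d hd]
        show a (a.symm (d w)) = d (a (a.symm w))
        rw [LinearEquiv.apply_symm_apply, LinearEquiv.apply_symm_apply] }
  have hK : ∀ g ∈ E Q, ∀ n ∈ K, g * n * g⁻¹ ∈ K := by
    rintro g hg n ⟨hn, hn'⟩
    refine ⟨mul_mem (mul_mem hg hn) (inv_mem hg), fun d hd w => ?_⟩
    have h2 := hN g⁻¹ (inv_mem hg) d hd
    rw [inv_inv] at h2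
    have h3 := hn' _ h2 (g⁻¹ w)
    have h4 : ∀ z : V, g (g⁻¹ z) = z := fun z => LinearEquiv.apply_symm_apply g z
    have h5 : ∀ z : V, g⁻¹ (g z) = z := fun z => LinearEquiv.symm_apply_apply g z
    have h6 : ∀ z : V, (((g⁻¹ : V ≃ₗ[F] V) : V →ₗ[F] V) * d * (g : V →ₗ[F] V)) z = g⁻¹ (d (g z)) := fun z => rfl
    rw [h6, h6, h4] at h3
    show g (n (g⁻¹ (d w))) = d (g (n (g⁻¹ w)))
    rw [h3, h4]
  rcases good_normal_dichotomy hG (N := K) (fun g hg => hg.1) hK with h2 | h2
  · exact hns (h2 _ ⟨hx, hcomm⟩)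
  · obtain ⟨g, hg, hgu⟩ := hG.trans_norm hu0 hv0 hQuv
    have h3 : g ∈ K := by rw [h2]; exact hg
    have h4 := h3.2 d₀ hd₀ u
    rw [hd₀u, hgu, hd₀v] at h4
    exact hv0 h4

end Cfsg.Agent.H283.Fxo
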