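import Cfsg.Agent.H626.IFO.Inv
import Cfsg.Agent.H283.Fxo.Two
import Mathlib.FieldTheory.Finite.Basic
import Mathlib.LinearAlgebra.BilinearForm.Orthogonal

/-!
# S5719, `|A|` odd, orthogonal groups: no swap in even dimension (helper283, statement of helper626)

`R` a commutative group of isometries of exponent `r`, `M` an irreducible totally singular `R`-submodule of even dimension
`d`, `dim V = 2 d`, `V` cyclic: impossible. The field `F[R] | M` has `q ^ d` elements; `x ^ (q ^ (d / 2)) = x⁻¹` on `R`, so the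
adjoint of `a ∈ F[R]` is `a ^ (q ^ (d / 2))`, and the annihilator of `M` is stable under the adjoint: it is zero.
-/

set_option autoImplicit false

namespace Cfsg.Agent.H283.Fxo

open QuadraticMap Module
open Cfsg.Agent.LieClassical.OrthCore Cfsg.Agent.H626.IFO

universe u v

variable {F : Type u} {V : Type v} [Field F] [AddCommGroup V] [Module F V] {Q : QuadraticForm F V}
  {R : Subgroup (V ≃ₗ[F] V)}

/-- Frobenius is additive on commuting endomorphisms -/
theorem add_pow_card [Finite F] [Nontrivial V] (k : ℕ) {a b : Module.End F V} (h : a * b = b * a) :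
    (a + b) ^ (Nat.card F ^ k) = a ^ (Nat.card F ^ k) + b ^ (Nat.card F ^ k) := by
  cases nonempty_fintype F
  obtain ⟨p, hp⟩ := CharP.exists F
  obtain ⟨n, hn, hc⟩ := FiniteField.card F p
  haveI : Fact p.Prime := ⟨hn⟩
  haveI : CharP (Module.End F V) p := charP_of_injective_algebraMap (algebraMap F (Module.End F V)).injective p
  rw [Nat.card_eq_fintype_card, hc, ← pow_mul]
  exact add_pow_char_pow_of_commute _ _ h

theorem pow_card_alg [Finite F] (k : ℕ) (c : F) :
    (algebraMap F (Module.End F V) c) ^ (Nat.card F ^ k) = algebraMap F (Module.End F V) c := by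
  cases nonempty_fintype F
  rw [← map_pow, Nat.card_eq_fintype_card, FiniteField.pow_card_pow]

theorem alg_apply_mem {M : Submodule F V} (hMi : Inv R M) {a : Module.End F V} (ha : a ∈ Alg (R : Set (V ≃ₗ[F] V)))
    {m : V} (hm : m ∈ M) : a m ∈ M := by
  revert m
  induction ha using Algebra.adjoin_induction with
  | mem s hs =>
    obtain ⟨x, hx, rfl⟩ := hs
    intro m hm
    exact hMi x hx m hm
  | algebraMap c => intro m hm; exact M.smul_mem c hm
  | add s t _ _ hs ht => intro m hm; exact M.add_mem (hs hm) (ht hm)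
  | mul s t _ _ hs ht => intro m hm; exact hs (ht hm)

theorem mem_alg {x : V ≃ₗ[F] V} (hx : x ∈ R) : (x : V →ₗ[F] V) ∈ Alg (R : Set (V ≃ₗ[F] V)) :=
  Algebra.subset_adjoin ⟨x, hx, rfl⟩

theorem coe_pow (x : V ≃ₗ[F] V) (n : ℕ) : ((x : V →ₗ[F] V) : Module.End F V) ^ n = ((x ^ n : V ≃ₗ[F] V) : V →ₗ[F] V) := by
  induction n with
  | zero => rw [pow_zero, pow_zero]; rfl
  | succ n ih => rw [pow_succ, pow_succ, ih]; rfl

/-- the vectors `a u` -/
theorem cyc_le_range (u : V) {w : V} (hw : w ∈ cyc R u) : ∃ a ∈ Alg (R : Set (V ≃ₗ[F] V)), a u = w := by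
  induction hw using Submodule.span_induction with
  | mem w h =>
    obtain ⟨x, hx, rfl⟩ := h
    exact ⟨_, mem_alg hx, rfl⟩
  | zero => exact ⟨0, zero_mem _, rfl⟩
  | add a b _ _ ha hb =>
    obtain ⟨s, hs, rfl⟩ := ha
    obtain ⟨t, ht, rfl⟩ := hb
    exact ⟨s + t, add_mem hs ht, rfl⟩
  | smul c a _ ha =>
    obtain ⟨s, hs, rfl⟩ := ha
    exact ⟨c • s, Subalgebra.smul_mem _ hs c, rfl⟩

section

variable {M : Submodule F V} (hc : ∀ x ∈ R, ∀ y ∈ R, x * y = y * x) (hMi : Inv R M)
  (hirr : ∀ W ≤ M, Inv R W → W = ⊥ ∨ W = M)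

include hc hMi hirr in
/-- an element of `F[R]` is injective on `M` or kills `M` -/
theorem alg_inj {a : Module.End F V} (ha : a ∈ Alg (R : Set (V ≃ₗ[F] V))) {w : V} (hw : w ∈ M) (hw0 : w ≠ 0)
    (h : a w = 0) : ∀ m ∈ M, a m = 0 := by
  have h1 : Inv R (M ⊓ LinearMap.ker a) := by
    intro x hx v hv
    refine ⟨hMi x hx v hv.1, ?_⟩
    have h2 : a * (x : V →ₗ[F] V) = (x : V →ₗ[F] V) * a := alg_comm (R := (R : Set (V ≃ₗ[F] V))) hc ha (mem_alg hx)
    have h3 := LinearMap.congr_fun h2 v
    change a (x v) = x (a v) at h3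
    change a (x v) = 0
    have h4 : a v = 0 := hv.2
    rw [h3, h4, map_zero]
  rcases hirr _ inf_le_left h1 with h2 | h2
  · exfalso
    have h3 : w ∈ M ⊓ LinearMap.ker a := ⟨hw, h⟩
    rw [h2] at h3
    exact hw0 h3
  · intro m hm
    rw [← h2] at hm
    exact hm.2

include hMi hirr in
theorem alg_surj {w : V} (hw : w ∈ M) (hw0 : w ≠ 0) {m : V} (hm : m ∈ M) :
    ∃ a ∈ Alg (R : Set (V ≃ₗ[F] V)), a w = m := by
  apply cyc_le_range
  rcases hirr _ (cyc_le hMi hw) (inv_cyc w) with h1 | h1
  · exfalso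
    have h2 := self_mem_cyc (R := R) w
    rw [h1] at h2
    exact hw0 h2
  · rw [h1]
    exact hm

include hc hMi hirr in
/-- the field `F[R] | M` -/
theorem exists_field [Finite F] [FiniteDimensional F V] (hM : M ≠ ⊥) :
    ∃ (K : Type v) (_ : Field K) (_ : Fintype K) (φ : Alg (R : Set (V ≃ₗ[F] V)) →+* K),
      Function.Surjective φ ∧ Nat.card K = Nat.card F ^ finrank F M ∧
      ∀ a, φ a = 0 → ∀ m ∈ M, (a : Module.End F V) m = 0 := by
  classical
  obtain ⟨w, hw, hw0⟩ := M.ne_bot_iff.1 hM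
  haveI : Finite V := Module.finite_of_finite F
  haveI : Finite (Module.End F V) := DFunLike.finite _
  have hcomm : ∀ a b : Alg (R : Set (V ≃ₗ[F] V)), a * b = b * a := fun a b =>
    Subtype.ext (alg_comm (R := (R : Set (V ≃ₗ[F] V))) hc a.2 b.2)
  letI iC : CommRing (Alg (R : Set (V ≃ₗ[F] V))) := { (inferInstance : Ring (Alg (R : Set (V ≃ₗ[F] V)))) with
    mul_comm := hcomm }
  let I : Ideal (Alg (R : Set (V ≃ₗ[F] V))) :=
    { carrier := {a | ∀ m ∈ M, (a : Module.End F V) m = 0}
      zero_mem' := fun m _ => rfl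
      add_mem' := by
        intro a b ha hb m hm
        change (a : Module.End F V) m + (b : Module.End F V) m = 0
        rw [ha m hm, hb m hm, add_zero]
      smul_mem' := by
        intro a b hb m hm
        change (a : Module.End F V) ((b : Module.End F V) m) = 0
        rw [hb m hm, map_zero] }
  have hI : ∀ a, a ∈ I ↔ (a : Module.End F V) w = 0 := by
    intro a
    exact ⟨fun h => h w hw, fun h => alg_inj hc hMi hirr a.2 hw hw0 h⟩
  haveI : I.IsPrime := by
    refine ⟨?_, ?_⟩
    · rw [Ideal.ne_top_iff_one]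
      intro h
      exact hw0 (h w hw)
    · intro a b h
      by_cases hb : b ∈ I
      · exact Or.inr hb
      · left
        have h1 : (a : Module.End F V) ((b : Module.End F V) w) = 0 := h w hw
        intro m hm
        exact alg_inj hc hMi hirr a.2 (alg_apply_mem hMi b.2 hw) (fun h0 => hb ((hI b).2 h0)) h1 m hm
  haveI : Finite (Alg (R : Set (V ≃ₗ[F] V)) ⧸ I) := Finite.of_surjective _ Ideal.Quotient.mk_surjective
  letI : Fintype (Alg (R : Set (V ≃ₗ[F] V)) ⧸ I) := Fintype.ofFinite _
  letI : Field (Alg (R : Set (V ≃ₗ[F] V)) ⧸ I) := Fintype.fieldOfDomain _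
  refine ⟨Alg (R : Set (V ≃ₗ[F] V)) ⧸ I, inferInstance, inferInstance, Ideal.Quotient.mk I,
    Ideal.Quotient.mk_surjective, ?_, ?_⟩
  · have h1 : Nat.card (Alg (R : Set (V ≃ₗ[F] V)) ⧸ I) = Nat.card M := by
      let f : Alg (R : Set (V ≃ₗ[F] V)) → M := fun a => ⟨(a : Module.End F V) w, alg_apply_mem hMi a.2 hw⟩
      have hf : ∀ a b, f a = f b ↔ Ideal.Quotient.mk I a = Ideal.Quotient.mk I b := by
        intro a b
        rw [Ideal.Quotient.eq, hI, Subtype.ext_iff]
        change (a : Module.End F V) w = (b : Module.End F V) w ↔ (a : Module.End F V) w - (b : Module.End F V) w = 0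
        rw [sub_eq_zero]
      refine Nat.card_eq_of_bijective (fun x => f (Quotient.out x)) ⟨?_, ?_⟩
      · intro x y hxy
        have h2 := (hf _ _).1 hxy
        change Ideal.Quotient.mk I (Quotient.out x) = Ideal.Quotient.mk I (Quotient.out y) at h2
        have h3 : ∀ z : Alg (R : Set (V ≃ₗ[F] V)) ⧸ I, Ideal.Quotient.mk I (Quotient.out z) = z :=
          fun z => Quotient.out_eq z
        rwa [h3, h3] at h2
      · intro m
        obtain ⟨a, ha, hm⟩ := alg_surj hMi hirr hw hw0 m.2
        refine ⟨Ideal.Quotient.mk I ⟨a, ha⟩, ?_⟩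
        have h3 : Ideal.Quotient.mk I (Quotient.out (Ideal.Quotient.mk I (⟨a, ha⟩ : Alg (R : Set (V ≃ₗ[F] V))))) =
            Ideal.Quotient.mk I ⟨a, ha⟩ := Quotient.out_eq _
        change f _ = m
        rw [(hf _ _).2 h3]
        exact Subtype.ext hm
    rw [h1, Module.natCard_eq_pow_finrank (K := F)]
  · intro a ha m hm
    rw [Ideal.Quotient.eq_zero_iff_mem] at ha
    exact ha m hm

end

/-- the adjoint of `a ∈ F[R]` is `a ^ N` -/
theorem adj_pow [Finite F] [Nontrivial V] (hR : R ≤ O Q) (hc : ∀ x ∈ R, ∀ y ∈ R, x * y = y * x) {k : ℕ}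
    (hx : ∀ x ∈ R, x ^ (Nat.card F ^ k) = x⁻¹) {a : Module.End F V} (ha : a ∈ Alg (R : Set (V ≃ₗ[F] V))) :
    ∀ v w, polar Q (a v) w = polar Q v ((a ^ (Nat.card F ^ k)) w) := by
  induction ha using Algebra.adjoin_induction with
  | mem s hs =>
    obtain ⟨x, hx1, rfl⟩ := hs
    intro v w
    rw [coe_pow, hx x hx1]
    exact polar_inv hR hx1 v w
  | algebraMap c =>
    intro v w
    rw [pow_card_alg]
    change polar Q (c • v) w = polar Q v (c • w)
    rw [polar_smul_left, polar_smul_right]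
  | add s t hs' ht' hs ht =>
    intro v w
    rw [add_pow_card k (alg_comm (R := (R : Set (V ≃ₗ[F] V))) hc hs' ht')]
    change polar Q (s v + t v) w = polar Q v ((s ^ (Nat.card F ^ k)) w + (t ^ (Nat.card F ^ k)) w)
    rw [polar_add_left, polar_add_right, hs, ht]
  | mul s t hs' ht' hs ht =>
    intro v w
    have h1 : Commute s t := alg_comm (R := (R : Set (V ≃ₗ[F] V))) hc hs' ht'
    rw [h1.mul_pow, (h1.pow_pow _ _).eq]
    change polar Q (s (t v)) w = polar Q v ((t ^ (Nat.card F ^ k)) ((s ^ (Nat.card F ^ k)) w))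
    rw [hs, ht]

theorem pow_fix [Finite F] [Nontrivial V] (hc : ∀ x ∈ R, ∀ y ∈ R, x * y = y * x) {k : ℕ}
    (hx : ∀ x ∈ R, x ^ (Nat.card F ^ k) = x) {a : Module.End F V} (ha : a ∈ Alg (R : Set (V ≃ₗ[F] V))) :
    a ^ (Nat.card F ^ k) = a := by
  induction ha using Algebra.adjoin_induction with
  | mem s hs =>
    obtain ⟨x, hx1, rfl⟩ := hs
    rw [coe_pow, hx x hx1]
  | algebraMap c => exact pow_card_alg k c
  | add s t hs' ht' hs ht =>
    rw [add_pow_card k (alg_comm (R := (R : Set (V ≃ₗ[F] V))) hc hs' ht'), hs, ht]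
  | mul s t hs' ht' hs ht =>
    have h1 : Commute s t := alg_comm (R := (R : Set (V ≃ₗ[F] V))) hc hs' ht'
    rw [h1.mul_pow, hs, ht]

/-- **No swap in even dimension.** -/
theorem no_swap [Finite F] [FiniteDimensional F V] (hQ : Nondeg Q) (hR : R ≤ O Q)
    (hc : ∀ x ∈ R, ∀ y ∈ R, x * y = y * x) {r : ℕ} (hr : r.Prime) (hpow : ∀ x ∈ R, x ^ r = 1)
    {M : Submodule F V} (hM : M ≠ ⊥) (hMi : Inv R M)
    (hirr : ∀ W ≤ M, Inv R W → W = ⊥ ∨ W = M) (hM0 : M ⊓ Fx R = ⊥) (hMM : M ≤ perp Q M) (hev : Even (finrank F M))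
    (hn : finrank F V = 2 * finrank F M) (u : V) (hu : cyc R u = ⊤) : False := by
  classical
  obtain ⟨w, hw, hw0⟩ := M.ne_bot_iff.1 hM
  haveI : Nontrivial V := ⟨⟨w, 0, hw0⟩⟩
  obtain ⟨k, hk⟩ := hev
  have hd0 : 0 < finrank F M := by
    rw [Nat.pos_iff_ne_zero]
    intro h
    exact hM (Submodule.finrank_eq_zero.1 h)
  have hk0 : k ≠ 0 := by omega
  obtain ⟨K, iK, iF, φ, hφ, hcard, hker⟩ := exists_field hc hMi hirr hM
  set q := Nat.card F with hq
  have hq2 : 2 ≤ q := Finite.one_lt_card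
  have hcK : Fintype.card K = q ^ (k + k) := by rw [← Nat.card_eq_fintype_card, hcard, hk]
  -- an element of `R` moving `M`
  obtain ⟨x0, hx0, hx1⟩ : ∃ x ∈ R, x w ≠ w := by
    by_contra hcon
    push Not at hcon
    have h1 : w ∈ M ⊓ Fx R := ⟨hw, fun x hx => hcon x hx⟩
    rw [hM0] at h1
    exact hw0 h1
  have hdvd : r ∣ q ^ (k + k) - 1 := by
    set z : K := φ ⟨_, mem_alg hx0⟩ with hz
    have hz1 : z ^ r = 1 := by
      rw [hz, ← map_pow, ← map_one φ]
      congr 1
      apply Subtype.ext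
      change ((x0 : V →ₗ[F] V) : Module.End F V) ^ r = 1
      rw [coe_pow, hpow x0 hx0]
      rfl
    have hz2 : z ≠ 1 := by
      intro h
      have h1 : φ (⟨_, mem_alg hx0⟩ - 1) = 0 := by rw [map_sub, map_one, sub_eq_zero]; exact h
      have h2 := hker _ h1 w hw
      change x0 w - w = 0 at h2
      exact hx1 (sub_eq_zero.1 h2)
    have hz0 : z ≠ 0 := by
      intro h
      rw [h, zero_pow hr.ne_zero] at hz1
      exact zero_ne_one hz1
    have h3 : z ^ (q ^ (k + k) - 1) = 1 := by
      rw [← hcK]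
      exact FiniteField.pow_card_sub_one_eq_one z hz0
    have h4 := orderOf_dvd_of_pow_eq_one hz1
    rcases (Nat.dvd_prime hr).1 h4 with h5 | h5
    · exact absurd (orderOf_eq_one_iff.1 h5) hz2
    · rw [← h5]
      exact orderOf_dvd_of_pow_eq_one h3
  have hfac : q ^ (k + k) - 1 = (q ^ k + 1) * (q ^ k - 1) := by
    rw [pow_add, ← Nat.sq_sub_sq, one_pow, pow_two]
  have hqk : 2 ≤ q ^ k := hq2.trans (Nat.le_self_pow hk0 q)
  rw [hfac, hr.dvd_mul] at hdvd
  rcases hdvd with hdvd | hdvd
  · -- `x ^ (q ^ k) = x⁻¹`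
    have hxi : ∀ x ∈ R, x ^ (q ^ k) = x⁻¹ := by
      intro x hx
      apply eq_inv_of_mul_eq_one_left
      rw [← pow_succ]
      obtain ⟨c, hc'⟩ := hdvd
      rw [hc', pow_mul, hpow x hx, one_pow]
    have hadj := fun a ha => adj_pow hR hc hxi (a := a) ha
    -- `perp M = M`
    have hperp : perp Q M = M := by
      have h1 := LinearMap.BilinForm.finrank_add_finrank_orthogonal' (B := polarBilin Q) M
      have h2 : LinearMap.ker (polarBilin Q) = ⊥ := by
        rw [LinearMap.ker_eq_bot']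
        intro v hv
        apply hQ
        intro y
        exact LinearMap.congr_fun hv y
      rw [h2, inf_bot_eq, finrank_bot, add_zero] at h1
      have h3 : perp Q M ≤ LinearMap.BilinForm.orthogonal (polarBilin Q) M := by
        intro v hv m hm
        change polar Q m v = 0
        rw [polar_comm]
        exact hv m hm
      have h4 := Submodule.finrank_mono h3
      exact (Submodule.eq_of_le_of_finrank_le hMM (by omega)).symm
    have hzero : ∀ a ∈ Alg (R : Set (V ≃ₗ[F] V)), (∀ m ∈ M, a m = 0) → a = 0 := by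
      intro a ha h
      have h1 : ∀ j, j ≠ 0 → ∀ m ∈ M, (a ^ j) m = 0 := by
        intro j hj m hm
        obtain ⟨i, rfl⟩ := Nat.exists_eq_succ_of_ne_zero hj
        rw [pow_succ]
        change (a ^ i) (a m) = 0
        rw [h m hm, map_zero]
      have h2 : ∀ v, a v ∈ M := by
        intro v
        rw [← hperp]
        intro m hm
        rw [hadj a ha, h1 _ (by rw [← hq]; omega) m hm, polar_zero_right]
      have h3 : a * a = 0 := by
        ext v
        exact h _ (h2 v)
      have h4 : a ^ (q ^ k) = 0 := by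
        obtain ⟨j, hj⟩ := Nat.exists_eq_add_of_le hqk
        rw [hj, pow_add, pow_two, h3, zero_mul]
      ext v
      apply hQ
      intro y
      rw [hadj a ha, h4]
      exact polar_zero_right Q v
    -- dimensions
    let f : Alg (R : Set (V ≃ₗ[F] V)) →ₗ[F] M :=
      { toFun := fun a => ⟨(a : Module.End F V) w, alg_apply_mem hMi a.2 hw⟩
        map_add' := fun a b => rfl
        map_smul' := fun c a => rfl }
    let g : Alg (R : Set (V ≃ₗ[F] V)) →ₗ[F] V :=
      { toFun := fun a => (a : Module.End F V) u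
        map_add' := fun a b => rfl
        map_smul' := fun c a => rfl }
    have hf : Function.Injective f := by
      rw [injective_iff_map_eq_zero]
      intro a ha
      apply Subtype.ext
      apply hzero _ a.2
      apply alg_inj hc hMi hirr a.2 hw hw0
      exact congrArg Subtype.val ha
    have hg : Function.Surjective g := by
      intro v
      obtain ⟨a, ha, h⟩ := cyc_le_range (R := R) u (w := v) (by rw [hu]; trivial)
      exact ⟨⟨a, ha⟩, h⟩
    have h1 := LinearMap.finrank_le_finrank_of_injective hf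
    have h2 : finrank F V ≤ finrank F (Alg (R : Set (V ≃ₗ[F] V))) := by
      rw [← LinearMap.finrank_range_add_finrank_ker g, LinearMap.range_eq_top.2 hg, finrank_top]
      exact Nat.le_add_right _ _
    omega
  · -- `x ^ (q ^ k) = x`
    have hxi : ∀ x ∈ R, x ^ (q ^ k) = x := by
      intro x hx
      obtain ⟨c, hc'⟩ := hdvd
      have h1 : q ^ k = r * c + 1 := by omega
      rw [h1, pow_succ, pow_mul, hpow x hx, one_pow, one_mul]
    have h1 : ∀ z : K, z ^ (q ^ k) = z := by
      intro z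
      obtain ⟨a, rfl⟩ := hφ z
      rw [← map_pow]
      congr 1
      exact Subtype.ext (pow_fix hc hxi a.2)
    have h2 := Polynomial.card_le_degree_of_subset_roots (R := K) (p := Polynomial.X ^ (q ^ k) - Polynomial.X)
      (Z := Finset.univ) (fun z _ => by
        rw [Polynomial.mem_roots', Polynomial.IsRoot, Polynomial.eval_sub, Polynomial.eval_pow, Polynomial.eval_X,
          h1 z, sub_self]
        exact ⟨FiniteField.X_pow_card_sub_X_ne_zero K (by omega), rfl⟩)
    rw [FiniteField.X_pow_card_sub_X_natDegree_eq K (by omega), Finset.card_univ, hcK] at h2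
    have h3 : q ^ k < q ^ (k + k) := Nat.pow_lt_pow_right (by omega) (by omega)
    omega

end Cfsg.Agent.H283.Fxo
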